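import Groth.Agent.IsBd96.Main
import Groth.Agent.Var76.Mumford
import Groth.Prelude.Def_FGA

/-!
# Bounded families on closed subschemes of projective space
-/

set_option autoImplicit false
set_option backward.isDefEq.respectTransparency.types false
universe u

open CategoryTheory CategoryTheory.Limits AlgebraicGeometry TopologicalSpace Opposite Polynomial

noncomputable section

set_option maxSynthPendingDepth 6

namespace Groth.Agent.IsBd96

open Var76.Reg Crv77

variable {k : Type u} [Field k] {n : ℕ}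

theorem isProper_of_closed {X : Scheme.{u}} [X.Over (Spec (CommRingCat.of k))]
    (i : X ⟶ CohB1.ProjSpace n k) [IsClosedImmersion i]
    (hi : i ≫ CohB1.ProjSpace.toSpec n k = X ↘ Spec (CommRingCat.of k)) :
    IsProper (X ↘ Spec (CommRingCat.of k)) := by
  have : IsProper (CohB1.ProjSpace.toSpec n k) := Serre71.isProper_projSpace n k
  rw [← hi]
  infer_instance

section Closed

variable {X : Scheme.{u}} [X.Over (Spec (CommRingCat.of k))] (i : X ⟶ CohB1.ProjSpace n k) [IsClosedImmersion i]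
  (hi : i ≫ CohB1.ProjSpace.toSpec n k = X ↘ Spec (CommRingCat.of k))

include hi in
theorem nonempty_hh_twistOn {F : X.Modules} (hF : Coh.IsCoh F) (d : ℤ) (q : ℕ) :
    Nonempty (Coh.HH (CohB1.ProjSpace n k) (tw n k ((Coh.push i).obj F) d) q ≃ₗ[k]
      Coh.HH X (Pic13.twistOn k i F d) q) := by
  have := isLocallyNoetherian_of_closed i
  have := isProper_of_closed i hi
  have : IsProper (CohB1.ProjSpace n k ↘ Spec (CommRingCat.of k)) := Serre71.isProper_projSpace n k
  have hT : Coh.IsCoh (Pic13.twistOn k i F d) :=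
    Amp73.isCoh_tensorMod hF (Amp73.isCoh_of_isInvertible (Amp73.isInvertible_pullback i (isInvertible_twist d)))
  have := hT.1
  obtain ⟨f⟩ := Var76.nonempty_hhLin_push (A := k) i hi (Pic13.twistOn k i F d) (QC70.isCoh_pushforward i _ hT).1 q
  exact ⟨(hEquiv k (ValVan29.projIso i F _ (isInvertible_twist d)) q).trans f⟩

include hi in
theorem reg_of_isMRegular {F : X.Modules} (hF : Coh.IsCoh F) {m : ℤ} (h : Pic13.IsMRegular k i F m) :
    Reg n k ((Coh.push i).obj F) m := fun q hq =>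
  haveI := h q hq
  (nonempty_hh_twistOn i hi hF (m - q) q).some.toEquiv.subsingleton

include hi in
theorem eulerCharLE_eq {F : X.Modules} (hF : Coh.IsCoh F) (r : ℕ) :
    FGA.eulerCharLE k X (Pic13.twistOn k i F (r : ℤ)) n =
      Curv2.euler k X (ShStab.twist X ((Scheme.Modules.pullback i).obj (Twist.twistProjSpace n k 1)) F r) := by
  have := isLocallyNoetherian_of_closed i
  obtain ⟨e⟩ := exists_twist_iso i ⟨Iso.refl ((Scheme.Modules.pullback i).obj (Twist.twistProjSpace n k 1))⟩ r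
  show _ = Curv2.euler k X (CohB1.tensorMod F
    (CohB1.tensorPow ((Scheme.Modules.pullback i).obj (Twist.twistProjSpace n k 1)) r))
  rw [Crv77.euler_congr (k := k) (EGA73.tensIso (Iso.refl F) e)]
  have hb : Crv77.FinBdd k (Pic13.twistOn k i F (r : ℤ)) (n + 1) := by
    refine ⟨fun q => ?_, fun q hq => ?_⟩
    · have := finite_hh_tw _ (QC70.isCoh_pushforward i _ hF) (r : ℤ) q
      exact Module.Finite.equiv (nonempty_hh_twistOn i hi hF (r : ℤ) q).some
    · have := subsingleton_hh_gt n k _ (isQCoh_tw n k _ (QC70.isCoh_pushforward i _ hF).1 (r : ℤ)) q hq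
      exact (nonempty_hh_twistOn i hi hF (r : ℤ) q).some.symm.toEquiv.subsingleton
  exact hb.euler_eq.symm

include hi in
/-- Regular modules with given Hilbert polynomial are bounded. -/
theorem isBounded_mReg (m : ℤ) (φ : ℚ[X]) :
    Pic13.IsBounded k X (fun F : X.Modules => Coh.IsCoh F ∧ Pic13.IsMRegular k i F m ∧
      ∀ d : ℤ, (FGA.eulerCharLE k X (Pic13.twistOn k i F d) n : ℚ) = φ.eval (d : ℚ)) := by
  have := isProper_of_closed i hi
  have := isLocallyNoetherian_of_closed i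
  let L := (Scheme.Modules.pullback i).obj (Twist.twistProjSpace n k 1)
  refine isBounded_of_reg i hi L ⟨Iso.refl _⟩ (Amp73.isInvertible_pullback i (isInvertible_twist 1))
    {φ} m.toNat _ fun F hF => ?_
  obtain ⟨hFc, hFr, hFp⟩ := hF
  refine ⟨hFc, ⟨φ, Finset.mem_singleton_self φ, fun r => ?_⟩,
    (reg_of_isMRegular i hi hFc hFr).mono (QC70.isCoh_pushforward i _ hFc).1 (Int.self_le_toNat m)⟩
  rw [← eulerCharLE_eq i hi hFc r, hFp]
  simp

end Closed

theorem eulerCharLE_tw {F : (CohB1.ProjSpace n k).Modules} (hF : Coh.IsCoh F) (r : ℤ) :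
    FGA.eulerCharLE k (CohB1.ProjSpace n k) (tw n k F r) n = chi F r :=
  (finBdd_tw hF r).euler_eq.symm

/-- Quotients of a coherent module with finitely many Hilbert functions are bounded. -/
theorem isBounded_quotients [Infinite k] (E : (CohB1.ProjSpace n k).Modules) (hE : Coh.IsCoh E)
    (Φ : Set (ℤ → ℤ)) (hΦ : Φ.Finite) :
    Pic13.IsBounded k (CohB1.ProjSpace n k) (fun F =>
      Coh.IsCoh F ∧ (∃ p : E ⟶ F, Epi p) ∧
        (fun r : ℤ => FGA.eulerCharLE k (CohB1.ProjSpace n k)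
          (CohB1.tensorMod F (Twist.twistProjSpace n k r)) n) ∈ Φ) := by
  classical
  have : IsProper (CohB1.ProjSpace n k ↘ Spec (CommRingCat.of k)) := Serre71.isProper_projSpace n k
  let i : CohB1.ProjSpace n k ⟶ CohB1.ProjSpace n k := 𝟙 _
  let L := (Scheme.Modules.pullback i).obj (Twist.twistProjSpace n k 1)
  have hi : i ≫ CohB1.ProjSpace.toSpec n k = CohB1.ProjSpace n k ↘ Spec (CommRingCat.of k) := Category.id_comp _
  obtain ⟨m₀, hm₀⟩ := exists_reg E hE
  obtain ⟨b, ψ, hψ, -⟩ := hm₀.exists_presentation hE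
  let poly : (ℤ → ℤ) → ℚ[X] := fun f =>
    if h : ∃ P : ℚ[X], ∀ r : ℕ, P.eval (r : ℚ) = (f r : ℚ) then h.choose else 0
  let s : Finset ℚ[X] := hΦ.toFinset.image poly
  let a : ℕ := (-m₀).toNat
  let g : (ℤ → ℤ) → ℤ → ℤ := fun f r => ((b * (r.toNat + n).choose n : ℕ) : ℤ) - f (r + m₀)
  let B : ℕ := hΦ.toFinset.sup fun f => (m₀ + max (mumBd n b (n + 1) (g f) a) 0).toNat
  refine isBounded_of_reg i hi L ⟨Iso.refl _⟩ (Amp73.isInvertible_pullback i (isInvertible_twist 1))
    s B _ fun F hF => ?_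
  obtain ⟨hFc, ⟨p, hp⟩, hFΦ⟩ := hF
  let f : ℤ → ℤ := fun r : ℤ => FGA.eulerCharLE k (CohB1.ProjSpace n k) (tw n k F r) n
  have hfΦ : f ∈ hΦ.toFinset := hΦ.mem_toFinset.2 hFΦ
  have hfchi : ∀ r, f r = chi F r := eulerCharLE_tw hFc
  have hpush : Coh.push i ≅ 𝟭 _ := Scheme.Modules.pushforwardId _
  have hex : ∃ P : ℚ[X], ∀ r : ℕ, P.eval (r : ℚ) = (f r : ℚ) := by
    refine ⟨HP96.hp k L F, fun r => ?_⟩
    rw [← HP96.isHilbPoly_hp k (Amp73.isInvertible_pullback i (isInvertible_twist 1)) hFc r,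
      ← chi_push i hi ⟨Iso.refl L⟩ hFc, hfchi]
    exact congrArg _ (euler_congr (EGA73.tensIso (hpush.app F) (Iso.refl _)))
  refine ⟨hFc, ⟨poly f, Finset.mem_image_of_mem _ hfΦ, fun r => ?_⟩, ?_⟩
  · have hp' : poly f = hex.choose := dif_pos hex
    rw [hp', hex.choose_spec r, hfchi, ← chi_push i hi ⟨Iso.refl L⟩ hFc]
    exact congrArg _ (euler_congr (EGA73.tensIso (hpush.app F) (Iso.refl _)))
  -- regularity
  let G := tw n k F m₀
  have hG : Coh.IsCoh G := isCoh_tw hFc m₀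
  obtain ⟨q, hq⟩ : ∃ q : FlatMod.freeMod (CohB1.ProjSpace n k) b ⟶ G, Epi q := by
    have hψp : Epi (ψ ≫ p) := epi_comp _ _
    obtain ⟨w, hT⟩ := shortExact_twMap (A := k) (KData.kernel_shortExact (ψ ≫ p)) m₀
    have : Epi (twMap (ψ ≫ p) m₀) := hT.epi_g
    obtain ⟨e⟩ := nonempty_tw_free_iso (n := n) (k := k) b (-m₀)
    obtain ⟨ett⟩ := nonempty_tw_tw (FlatMod.freeMod (CohB1.ProjSpace n k) b) (show -m₀ + m₀ = 0 by ring)
    obtain ⟨e0⟩ := nonempty_tw_zero (F := FlatMod.freeMod (CohB1.ProjSpace n k) b)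
    exact ⟨(e0.symm ≪≫ ett.symm ≪≫ EGA73.tensIso e (Iso.refl _)).hom ≫ twMap (ψ ≫ p) m₀, epi_comp _ _⟩
  have hregK : Reg n k (kernel q) (mumBd n b (n + 1) (g f) a) := mumford b q hG (g f) a fun r hr => by
    rw [chi_kernel b q hG r]
    show _ = ((b * ((r : ℤ).toNat + n).choose n : ℕ) : ℤ) - f ((r : ℤ) + m₀)
    rw [hfchi, chi_tw F (show m₀ + (r : ℤ) = (r : ℤ) + m₀ by ring), Int.toNat_natCast]
  have hregG : Reg n k G (max (mumBd n b (n + 1) (g f) a) 0) := fun j hj => by
    refine sub_tw_X₃ (KData.kernel_shortExact q) ?_ ?_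
    · exact subsingleton_hh_free b _ hj (by omega)
    · exact hregK.vanish (QC70.isCoh_kernel q (isCoh_free b) hG.1).1 (by omega) (by push_cast; omega)
  have hregF : Reg n k F (m₀ + max (mumBd n b (n + 1) (g f) a) 0) := fun j hj => by
    obtain ⟨e⟩ := nonempty_tw_tw F (a := m₀) (b := max (mumBd n b (n + 1) (g f) a) 0 - j)
      (c := m₀ + max (mumBd n b (n + 1) (g f) a) 0 - j) (by ring)
    exact ValVan29.subsingleton_hh_of_iso e j (hregG j hj)
  have hB : (m₀ + max (mumBd n b (n + 1) (g f) a) 0).toNat ≤ B :=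
    Finset.le_sup (f := fun f => (m₀ + max (mumBd n b (n + 1) (g f) a) 0).toNat) hfΦ
  exact reg_of_iso (hpush.app F) (hregF.mono hFc.1 ((Int.self_le_toNat _).trans (by exact_mod_cast hB)))

end Groth.Agent.IsBd96
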